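import Groth.Agent.Lib.FSAdic.PowerSeries
import Mathlib.RingTheory.AdicCompletion.RingHom
import Mathlib.RingTheory.Filtration

/-!
# Evaluating power series in complete rings
-/

universe u v w

namespace Groth.Agent.Lib.NodeDeform45

open MvPowerSeries

/-- Limits of Cauchy sequences in adically complete rings. -/
theorem exists_lim {A : Type u} [CommRing A] (J : Ideal A) [IsAdicComplete J A] (f : ℕ → A)
    (h : ∀ n, f (n + 1) - f n ∈ J ^ n) : ∃ L, ∀ n, L - f n ∈ J ^ n := by
  have hmn : ∀ {m n : ℕ}, m ≤ n → f n - f m ∈ J ^ m := by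
    intro m n hle
    induction n, hle using Nat.le_induction with
    | base => simp
    | succ n hle ih => simpa using add_mem (Ideal.pow_le_pow_right hle (h n)) ih
  obtain ⟨L, hL⟩ := IsPrecomplete.prec (I := J) inferInstance (f := f) fun {m n} hle => by
    rw [SModEq.sub_mem, smul_eq_mul, Ideal.mul_top]
    simpa using neg_mem (hmn hle)
  refine ⟨L, fun n => ?_⟩
  have := hL n
  rw [SModEq.sub_mem, smul_eq_mul, Ideal.mul_top] at this
  simpa using neg_mem this

/-- Elements of all powers of a proper ideal of a Noetherian local ring vanish. -/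
theorem eq_zero_of_forall_mem_pow {A : Type u} [CommRing A] [IsNoetherianRing A] [IsLocalRing A]
    {J : Ideal A} (hJ : J ≠ ⊤) {a : A} (h : ∀ n, a ∈ J ^ n) : a = 0 := by
  rw [← Ideal.mem_bot, ← Ideal.iInf_pow_eq_bot_of_isLocalRing J hJ, Ideal.mem_iInf]
  exact h

variable {R : Type u} {S : Type v} [CommRing R] [CommRing S] {σ : Type} [Finite σ]

theorem ringHom_ext_of_sep (φ φ' : MvPowerSeries σ R →+* S) (J : Ideal S)
    (hsep : ∀ s, (∀ n, s ∈ J ^ n) → s = 0)
    (hC : ∀ r, φ (C r) = φ' (C r)) (hX : ∀ i, φ (X i) = φ' (X i)) (hXJ : ∀ i, φ (X i) ∈ J) :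
    φ = φ' := by
  have hpol : φ.comp MvPolynomial.coeToMvPowerSeries.ringHom =
      φ'.comp MvPolynomial.coeToMvPowerSeries.ringHom :=
    MvPolynomial.ringHom_ext (fun r => by simpa using hC r) (fun i => by simpa using hX i)
  refine RingHom.ext fun f => sub_eq_zero.1 (hsep _ fun n => ?_)
  have h1 := Groth.Agent.Lib.FSAdic.PowerSeries.sub_truncTotal_mem f n
  have hle : ∀ χ : MvPowerSeries σ R →+* S, (∀ i, χ (X i) ∈ J) →
      χ (f - ((truncTotal n f : MvPolynomial σ R) : MvPowerSeries σ R)) ∈ J ^ n := by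
    intro χ hχ
    refine Ideal.pow_right_mono ?_ n (Ideal.map_pow (f := χ) _ n ▸ Ideal.mem_map_of_mem χ h1)
    rw [Ideal.map_le_iff_le_comap, Ideal.span_le]
    rintro _ ⟨i, rfl⟩
    exact hχ i
  have heq : φ ((truncTotal n f : MvPolynomial σ R) : MvPowerSeries σ R) =
      φ' ((truncTotal n f : MvPolynomial σ R) : MvPowerSeries σ R) :=
    RingHom.congr_fun hpol _
  have := sub_mem (hle φ hXJ) (hle φ' fun i => hX i ▸ hXJ i)
  rwa [map_sub, map_sub, heq, sub_sub_sub_cancel_right] at this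

variable [Algebra R S]

theorem exists_eval (J : Ideal S) [IsAdicComplete J S] (v : σ → S) (hv : ∀ i, v i ∈ J) :
    ∃ ψ : MvPowerSeries σ R →ₐ[R] S, ∀ i, ψ (X i) = v i := by
  let p : MvPolynomial σ R →ₐ[R] S := MvPolynomial.aeval v
  have hp : ∀ n, ∀ g ∈ MvPolynomial.idealOfVars σ R ^ n, p g ∈ J ^ n := by
    intro n g hg
    refine Ideal.pow_right_mono ?_ n (Ideal.map_pow (f := p) _ n ▸ Ideal.mem_map_of_mem p hg)
    rw [Ideal.map_le_iff_le_comap, Ideal.span_le]
    rintro _ ⟨i, rfl⟩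
    simpa [p] using hv i
  let q : ∀ n, MvPolynomial σ R ⧸ MvPolynomial.idealOfVars σ R ^ n →ₐ[R] S ⧸ J ^ n := fun n =>
    Ideal.Quotient.liftₐ _ ((Ideal.Quotient.mkₐ R (J ^ n)).comp p) fun g hg =>
      Ideal.Quotient.eq_zero_iff_mem.2 (hp n g hg)
  let F : ∀ n, MvPowerSeries σ R →+* S ⧸ J ^ n := fun n =>
    ((q n).comp ((truncTotalAlgHom σ R n).restrictScalars R)).toRingHom
  have hF : ∀ n f, F n f = Ideal.Quotient.mk (J ^ n) (p (truncTotal n f)) := fun n f => rfl
  have hcompat : ∀ {m n : ℕ} (hle : m ≤ n),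
      (Ideal.Quotient.factorPow J hle).comp (F n) = F m := by
    intro m n hle
    refine RingHom.ext fun f => ?_
    rw [RingHom.comp_apply, hF, hF]
    refine (Ideal.Quotient.mk_eq_mk_iff_sub_mem _ _).2 ?_
    rw [← map_sub]
    refine hp m _ ((MvPolynomial.mem_pow_idealOfVars_iff' m _).2 fun d hd => ?_)
    rw [MvPolynomial.coeff_sub, coeff_truncTotal _ hd, coeff_truncTotal _ (lt_of_lt_of_le hd hle),
      sub_self]
  let ψ := IsAdicComplete.liftRingHom J F hcompat
  have hψ : ∀ (g : MvPolynomial σ R), ψ (g : MvPowerSeries σ R) = p g := by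
    intro g
    rw [IsHausdorff.eq_iff_smodEq (I := J)]
    intro n
    rw [SModEq.sub_mem, smul_eq_mul, Ideal.mul_top, ← Ideal.Quotient.eq,
      IsAdicComplete.mk_liftRingHom, hF, Ideal.Quotient.eq, ← map_sub]
    refine hp n _ ((MvPolynomial.mem_pow_idealOfVars_iff' n _).2 fun d hd => ?_)
    rw [MvPolynomial.coeff_sub, coeff_truncTotal _ hd, MvPolynomial.coeff_coe, sub_self]
  refine ⟨{ ψ with commutes' := fun r => ?_ }, fun i => ?_⟩
  · show ψ (algebraMap R _ r) = algebraMap R S r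
    rw [show algebraMap R (MvPowerSeries σ R) r = C r from rfl, ← MvPolynomial.coe_C, hψ]
    exact p.commutes r
  · show ψ (X i) = v i
    rw [← MvPolynomial.coe_X, hψ]
    exact MvPolynomial.aeval_X v i

end Groth.Agent.Lib.NodeDeform45
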