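import Groth.Agent.Lib.NodeInvol.Main
import Groth.Agent.Lib.NodeDeform45.Eval

/-!
# Eigen-coordinates of the closed fibre of a node deformation with involution
-/

set_option autoImplicit false

open Groth.Agent.H95.NodeSwap Groth.Agent.Lib.NodeInvol

noncomputable section

namespace Groth.Agent.Lib.NodeDeform45

universe u

variable {k : Type u} [Field k]

local notation "PS" => PowerSeries k
local notation "A₁" => ArSing.ring k 1
local notation "U" => ArSing.x k 1 + ArSing.y k 1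
local notation "V" => ArSing.y k 1 - ArSing.x k 1

variable (h2 : (2 : k) ≠ 0)

include h2 in
theorem dvd_U {q : A₁} (h : π₂ q = 0) : ∃ c, q = U * c := by
  obtain ⟨w, hw⟩ : PowerSeries.X ∣ π₁ q :=
    PowerSeries.X_dvd_iff.2 (by rw [← constantCoeff_eq, h, map_zero])
  refine ⟨glue w (PowerSeries.C (PowerSeries.constantCoeff w)), eq_of_π h2 ?_ ?_⟩
  · rw [map_mul, π₁_U h2, π₁_glue h2 _ _ (PowerSeries.constantCoeff_C _), hw]
  · rw [map_mul, π₂_U, zero_mul, h]

include h2 in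
theorem dvd_V {q : A₁} (h : π₁ q = 0) : ∃ c, q = V * c := by
  obtain ⟨w, hw⟩ : PowerSeries.X ∣ π₂ q :=
    PowerSeries.X_dvd_iff.2 (by rw [constantCoeff_eq, h, map_zero])
  refine ⟨glue (PowerSeries.C (PowerSeries.constantCoeff w)) w, eq_of_π h2 ?_ ?_⟩
  · rw [map_mul, π₁_V, zero_mul, h]
  · rw [map_mul, π₂_V h2, π₂_glue h2, hw]

variable (k) in
/-- The residue map of the node algebra. -/
def χ : A₁ →ₐ[k] k := (ε k).comp π₁

theorem χ_apply (q : A₁) : χ k q = PowerSeries.constantCoeff (π₁ q) := rfl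

include h2 in
theorem split (q : A₁) : ∃ a b : A₁, q = algebraMap k A₁ (χ k q) + U * a + V * b := by
  let q' := q - algebraMap k A₁ (χ k q)
  obtain ⟨w, hw⟩ : PowerSeries.X ∣ π₁ q' := PowerSeries.X_dvd_iff.2 (by
    show χ k q' = 0
    simp [q'])
  let a : A₁ := glue w (PowerSeries.C (PowerSeries.constantCoeff w))
  obtain ⟨b, hb⟩ := dvd_V h2 (q := q' - U * a) (by
    rw [map_sub, map_mul, π₁_U h2, π₁_glue h2 _ _ (PowerSeries.constantCoeff_C _), hw, sub_self])
  exact ⟨a, b, by linear_combination hb⟩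

variable {R S : Type u} [CommRing R] [CommRing S] [Algebra k R] [Algebra R S] [Algebra k S]
  [IsScalarTower k R S]

theorem fix (σ : S ≃ₐ[R] S) (c : k) : σ (algebraMap k S c) = algebraMap k S c := by
  rw [IsScalarTower.algebraMap_apply k R S, AlgEquiv.commutes]

theorem mem_max_iff [IsLocalRing S] (f : S →ₐ[k] k) (s : S) :
    s ∈ IsLocalRing.maximalIdeal S ↔ f s = 0 := by
  have hs : Function.Surjective f := fun c => ⟨algebraMap k S c, f.commutes c⟩
  have := IsLocalRing.eq_maximalIdeal (RingHom.ker_isMaximal_of_surjective f.toRingHom hs)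
  rw [← this]
  rfl

theorem residue_invariant [IsLocalRing S] (f : S →ₐ[k] k) (σ : S ≃ₐ[R] S) (s : S) :
    f (σ s) = f s := by
  have h0 : s - algebraMap k S (f s) ∈ IsLocalRing.maximalIdeal S :=
    (mem_max_iff f _).2 (by simp)
  have h1 : σ (s - algebraMap k S (f s)) ∈ IsLocalRing.maximalIdeal S := fun hu =>
    h0 (by simpa using hu.map σ.symm)
  rw [mem_max_iff f, map_sub, fix, map_sub, AlgHom.commutes, sub_eq_zero] at h1
  exact h1

theorem map_fib [IsLocalRing R] (σ : S ≃ₐ[R] S) {s : S}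
    (hs : s ∈ (IsLocalRing.maximalIdeal R).map (algebraMap R S)) :
    σ s ∈ (IsLocalRing.maximalIdeal R).map (algebraMap R S) := by
  have h := Ideal.mem_map_of_mem (σ : S →+* S) hs
  rwa [Ideal.map_map, show (σ : S →+* S).comp (algebraMap R S) = algebraMap R S from
    RingHom.ext σ.commutes] at h

include h2 in
/-- An eigenvector lifting one branch coordinate. -/
theorem eigen_one [IsLocalRing R] [IsLocalRing S] (p : S →ₐ[k] A₁) (hp : Function.Surjective p)
    (hker : ∀ s, p s = 0 ↔ s ∈ (IsLocalRing.maximalIdeal R).map (algebraMap R S))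
    (σ : S ≃ₐ[R] S) (hσ : ∀ s, σ (σ s) = s)
    (ρ ρ' : A₁ →ₐ[k] PS) (hρ : ∀ q, PowerSeries.constantCoeff (ρ q) = χ k q) (u : A₁)
    (hρu : ρ u = PowerSeries.X) (hρ'u : ρ' u = 0) (hdvd : ∀ q, ρ' q = 0 → ∃ c, q = u * c)
    (hinv : ∀ s, ρ' (p s) = 0 → ρ' (p (σ s)) = 0) :
    ∃ (ξ : k) (x : S), ξ ^ 2 = 1 ∧ σ x = algebraMap k S ξ * x ∧ ρ' (p x) = 0 ∧
      PowerSeries.coeff 1 (ρ (p x)) ≠ 0 := by
  obtain ⟨u₀, hu₀⟩ := hp u
  obtain ⟨c, hc⟩ := hdvd _ (hinv u₀ (by rw [hu₀, hρ'u]))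
  obtain ⟨w, rfl⟩ := hp c
  let f : S →ₐ[k] k := (χ k).comp p
  -- the sign
  set ξ := χ k (p w) with hξ
  have hI : σ u₀ - u₀ * w ∈ (IsLocalRing.maximalIdeal R).map (algebraMap R S) :=
    (hker _).1 (by rw [map_sub, map_mul, hu₀, hc, sub_self])
  have hu : u = u * p w * p (σ w) := by
    have := (hker _).2 (map_fib σ hI)
    rwa [map_sub, hσ, map_sub, map_mul, map_mul, hu₀, hc, sub_eq_zero] at this
  have hone : ρ (p w) * ρ (p (σ w)) = 1 := by
    have := congrArg ρ hu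
    rw [map_mul, map_mul, hρu, mul_assoc] at this
    exact (mul_eq_left₀ PowerSeries.X_ne_zero).1 this.symm
  have hsq : ξ ^ 2 = 1 := by
    have := congrArg PowerSeries.constantCoeff hone
    rw [map_mul, map_one, hρ, hρ, show χ k (p (σ w)) = ξ from residue_invariant f σ w] at this
    rw [sq, this]
  let h : S := algebraMap k S 2⁻¹
  refine ⟨ξ, h * (u₀ + algebraMap k S ξ * σ u₀), hsq, ?_, ?_, ?_⟩
  · rw [map_mul, map_add, map_mul, fix, fix, hσ]
    have hsq' : algebraMap k S ξ * algebraMap k S ξ = 1 := by rw [← map_mul, ← sq, hsq, map_one]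
    linear_combination (-(h * σ u₀)) * hsq'
  · simp [h, hu₀, hρ'u, hc]
  · have e : ρ (p (h * (u₀ + algebraMap k S ξ * σ u₀))) =
        PowerSeries.X * (PowerSeries.C 2⁻¹ * (1 + PowerSeries.C ξ * ρ (p w))) := by
      simp only [h, map_mul, map_add, AlgHom.commutes, hu₀, hc, hρu, PowerSeries.algebraMap_eq]
      ring
    rw [e, PowerSeries.coeff_succ_X_mul, PowerSeries.coeff_zero_eq_constantCoeff_apply]
    simp only [map_mul, map_add, map_one, PowerSeries.constantCoeff_C, hρ, ← hξ]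
    rw [← sq, hsq, one_add_one_eq_two, inv_mul_cancel₀ h2]
    exact one_ne_zero

/-- The minimal primes of the closed fibre are preserved. -/
theorem branch_invariant [IsLocalRing R] (p : S →ₐ[k] A₁) (hp : Function.Surjective p)
    (hker : ∀ s, p s = 0 ↔ s ∈ (IsLocalRing.maximalIdeal R).map (algebraMap R S))
    (σ : S ≃ₐ[R] S)
    (hbr : ∀ P ∈ ((IsLocalRing.maximalIdeal R).map (algebraMap R S)).minimalPrimes,
      Ideal.map (σ : S →+* S) P = P)
    (ρ : A₁ →ₐ[k] PS) (a b : A₁) (hab : a * b = 0) (ha : ρ a ≠ 0)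
    (hdvd : ∀ q, ρ q = 0 → ∃ c, q = b * c) (s : S) (hs : ρ (p s) = 0) : ρ (p (σ s)) = 0 := by
  let P : Ideal S := RingHom.ker (ρ.comp p).toRingHom
  have hmin : P ∈ ((IsLocalRing.maximalIdeal R).map (algebraMap R S)).minimalPrimes := by
    refine ⟨⟨RingHom.ker_isPrime _, fun z hz => ?_⟩, ?_⟩
    · show ρ (p z) = 0
      rw [(hker z).2 hz, map_zero]
    · rintro Q ⟨hQ, hIQ⟩ hQP z hz
      obtain ⟨a₀, ha₀⟩ := hp a
      obtain ⟨b₀, hb₀⟩ := hp b
      have hb : b₀ ∈ Q := (hQ.mem_or_mem (hIQ ((hker _).1 (by rw [map_mul, ha₀, hb₀, hab])))).resolve_left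
        fun h => ha (by
          have h' : ρ (p a₀) = 0 := hQP h
          rwa [ha₀] at h')
      obtain ⟨c, hc⟩ := hdvd (p z) hz
      obtain ⟨w, rfl⟩ := hp c
      have : z - b₀ * w ∈ Q := hIQ ((hker _).1 (by rw [map_sub, map_mul, hb₀, hc, sub_self]))
      simpa using add_mem this (Ideal.mul_mem_right w _ hb)
  have h := Ideal.mem_map_of_mem (σ : S →+* S) (show s ∈ P from hs)
  rw [hbr P hmin] at h
  exact h

include h2 in
theorem exists_coords [IsLocalRing R] [IsLocalRing S] (p : S →ₐ[k] A₁) (hp : Function.Surjective p)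
    (hker : ∀ s, p s = 0 ↔ s ∈ (IsLocalRing.maximalIdeal R).map (algebraMap R S))
    (σ : S ≃ₐ[R] S) (hσ : ∀ s, σ (σ s) = s)
    (hbr : ∀ P ∈ ((IsLocalRing.maximalIdeal R).map (algebraMap R S)).minimalPrimes,
      Ideal.map (σ : S →+* S) P = P) :
    ∃ (ξ₁ ξ₂ : k) (x y : S) (p' : S →ₐ[k] A₁), ξ₁ ^ 2 = 1 ∧ ξ₂ ^ 2 = 1 ∧
      σ x = algebraMap k S ξ₂ * x ∧ σ y = algebraMap k S ξ₁ * y ∧ Function.Surjective p' ∧
      (∀ s, p' s = 0 ↔ s ∈ (IsLocalRing.maximalIdeal R).map (algebraMap R S)) ∧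
      p' x = U ∧ p' y = V := by
  have hX := PowerSeries.X_ne_zero (R := k)
  obtain ⟨ξ₂, x, h₂, hσx, hx0, hx1⟩ := eigen_one h2 p hp hker σ hσ π₁ π₂ (fun _ => rfl) U (π₁_U h2)
    π₂_U (fun q => dvd_U h2) (branch_invariant p hp hker σ hbr π₂ V U (by rw [mul_comm, UV])
      (by rw [π₂_V h2]; exact hX) (fun q => dvd_U h2))
  obtain ⟨ξ₁, y, h₁, hσy, hy0, hy1⟩ := eigen_one h2 p hp hker σ hσ π₂ π₁ (fun q => constantCoeff_eq q)
    V (π₂_V h2) π₁_V (fun q => dvd_V h2) (branch_invariant p hp hker σ hbr π₁ U V UV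
      (by rw [π₁_U h2]; exact hX) (fun q => dvd_V h2))
  have mx : π₁ (p x) ∈ m₁ k := show PowerSeries.constantCoeff (π₁ (p x)) = 0 by
    rw [← constantCoeff_eq, hx0, map_zero]
  have my : π₂ (p y) ∈ m₁ k := show PowerSeries.constantCoeff (π₂ (p y)) = 0 by
    rw [constantCoeff_eq, hy0, map_zero]
  obtain ⟨φ, e1, e2, e3, e4⟩ := exists_aut h2 _ _ mx my hx1 hy1
  have ex : φ U = p x := eq_of_π h2 e1 (e2.trans hx0.symm)
  have ey : φ V = p y := eq_of_π h2 (e3.trans hy0.symm) e4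
  refine ⟨ξ₁, ξ₂, x, y, (φ.symm : A₁ →ₐ[k] A₁).comp p, h₁, h₂, hσx, hσy,
    φ.symm.surjective.comp hp, fun s => ?_, ?_, ?_⟩
  · rw [← hker s]
    exact map_eq_zero_iff φ.symm φ.symm.injective
  · show φ.symm (p x) = _
    rw [← ex, AlgEquiv.symm_apply_apply]
  · show φ.symm (p y) = _
    rw [← ey, AlgEquiv.symm_apply_apply]

end Groth.Agent.Lib.NodeDeform45
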