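import Groth.Agent.Lib.NodeDeform45.Iter
import Mathlib.RingTheory.AdicCompletion.Completeness
import Mathlib.RingTheory.Nakayama

/-!
# `S` is `R[[X, Y]]/(XY - t)`
-/

set_option autoImplicit false

open Groth.Agent.H95.NodeSwap Groth.Agent.Lib.NodeInvol IsLocalRing

noncomputable section

namespace Groth.Agent.Lib.NodeDeform45

universe u

variable {k : Type u} [Field k]

local notation "MPS" => MvPowerSeries (Fin 2) k
local notation "A₁" => ArSing.ring k 1
local notation "U" => ArSing.x k 1 + ArSing.y k 1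
local notation "V" => ArSing.y k 1 - ArSing.x k 1

variable (h2 : (2 : k) ≠ 0)

variable (k) in
theorem hasSubst_lin (a b c d : k) : MvPowerSeries.HasSubst
    (![MvPowerSeries.C a * MvPowerSeries.X 0 + MvPowerSeries.C b * MvPowerSeries.X 1,
      MvPowerSeries.C c * MvPowerSeries.X 0 + MvPowerSeries.C d * MvPowerSeries.X 1] : Fin 2 → MPS) :=
  MvPowerSeries.hasSubst_of_constantCoeff_zero fun i => by fin_cases i <;> simp

variable (k) in
/-- A linear change of variables. -/
def lin (a b c d : k) : MPS →ₐ[k] MPS := MvPowerSeries.substAlgHom (hasSubst_lin k a b c d)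

theorem lin_X0 (a b c d : k) : lin k a b c d (MvPowerSeries.X 0) =
    MvPowerSeries.C a * MvPowerSeries.X 0 + MvPowerSeries.C b * MvPowerSeries.X 1 :=
  MvPowerSeries.substAlgHom_X (hasSubst_lin k a b c d) 0

theorem lin_X1 (a b c d : k) : lin k a b c d (MvPowerSeries.X 1) =
    MvPowerSeries.C c * MvPowerSeries.X 0 + MvPowerSeries.C d * MvPowerSeries.X 1 :=
  MvPowerSeries.substAlgHom_X (hasSubst_lin k a b c d) 1

variable (k) in
/-- `X ↦ U`, `Y ↦ V`. -/
def θ : MPS →ₐ[k] A₁ := (Ideal.Quotient.mkₐ k _).comp (lin k 1 1 (-1) 1)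

theorem θ_X0 : θ k (MvPowerSeries.X 0) = U := by
  simp [θ, lin_X0]

theorem θ_X1 : θ k (MvPowerSeries.X 1) = V := by
  simp [θ, lin_X1]; ring

include h2 in
theorem lin_inv (f : MPS) :
    lin k 1 1 (-1) 1 (lin k 2⁻¹ (-2⁻¹) 2⁻¹ 2⁻¹ f) = f ∧
    lin k 2⁻¹ (-2⁻¹) 2⁻¹ 2⁻¹ (lin k 1 1 (-1) 1 f) = f := by
  have hh : (MvPowerSeries.C (2⁻¹ : k) : MPS) * 2 = 1 := by
    rw [← map_ofNat (MvPowerSeries.C) 2, ← map_mul, inv_mul_cancel₀ h2, map_one]
  have hC : ∀ (a b c d e : k), lin k a b c d (MvPowerSeries.C e) = MvPowerSeries.C e :=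
    fun a b c d e => (lin k a b c d).commutes e
  let J : Ideal MPS := RingHom.ker MvPowerSeries.constantCoeff
  have hJ : J ≠ ⊤ := RingHom.ker_ne_top _
  have hXJ : ∀ i, (MvPowerSeries.X i : MPS) ∈ J := fun i => MvPowerSeries.constantCoeff_X i
  constructor
  · have := hom_ext ((lin k 1 1 (-1) 1).comp (lin k 2⁻¹ (-2⁻¹) 2⁻¹ 2⁻¹)) (AlgHom.id k MPS) J hJ
      (fun i => by
        fin_cases i
        · simp [lin_X0, lin_X1, hC]; linear_combination MvPowerSeries.X 0 * hh
        · simp [lin_X0, lin_X1, hC]; linear_combination MvPowerSeries.X 1 * hh)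
      (fun i => by
        show MvPowerSeries.constantCoeff _ = 0
        fin_cases i <;> simp [lin_X0, lin_X1, hC])
    exact AlgHom.congr_fun this f
  · have := hom_ext ((lin k 2⁻¹ (-2⁻¹) 2⁻¹ 2⁻¹).comp (lin k 1 1 (-1) 1)) (AlgHom.id k MPS) J hJ
      (fun i => by
        fin_cases i
        · simp [lin_X0, lin_X1, hC]; linear_combination MvPowerSeries.X 0 * hh
        · simp [lin_X0, lin_X1, hC]; linear_combination MvPowerSeries.X 1 * hh)
      (fun i => by
        show MvPowerSeries.constantCoeff _ = 0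
        fin_cases i <;> simp [lin_X0, lin_X1, hC])
    exact AlgHom.congr_fun this f

include h2 in
theorem θ_ker (f : MPS) (hf : θ k f = 0) :
    MvPowerSeries.X 0 * MvPowerSeries.X 1 ∣ f := by
  obtain ⟨c, hc⟩ := Ideal.mem_span_singleton'.1 (Ideal.Quotient.eq_zero_iff_mem.1 hf)
  refine ⟨lin k 2⁻¹ (-2⁻¹) 2⁻¹ 2⁻¹ c, ?_⟩
  have he : (ArSing.eqn k 1 : MPS) = lin k 1 1 (-1) 1 (MvPowerSeries.X 0 * MvPowerSeries.X 1) := by
    rw [map_mul, lin_X0, lin_X1, ← uv_eq, uu, vv, map_one, map_neg, map_one]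
    ring
  rw [he] at hc
  have := congrArg (lin k 2⁻¹ (-2⁻¹) 2⁻¹ 2⁻¹) hc
  have e : lin k 2⁻¹ (-2⁻¹) 2⁻¹ 2⁻¹ (lin k 1 1 (-1) 1 f) = f := (lin_inv h2 f).2
  rw [map_mul, (lin_inv h2 _).2] at this
  replace this := this.trans e
  rw [← this]; ring

variable {R S : Type u} [CommRing R] [CommRing S] [Algebra k R] [Algebra R S] [Algebra k S]
  [IsScalarTower k R S] [IsLocalRing R] [IsLocalRing S] [IsNoetherianRing S]
  [IsLocalHom (algebraMap R S)]

theorem mem_map_C {h : MvPowerSeries (Fin 2) R} {I : Ideal R} (hI : I.FG)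
    (hh : ∀ d, MvPowerSeries.coeff d h ∈ I) : h ∈ I.map MvPowerSeries.C := by
  obtain ⟨n, g, rfl⟩ := Submodule.fg_iff_exists_fin_generating_family.1 hI
  choose c hc using fun d => Submodule.mem_span_range_iff_exists_fun R |>.1 (hh d)
  let series : Fin n → MvPowerSeries (Fin 2) R := fun i d => c d i
  have heq : h = ∑ i, MvPowerSeries.C (g i) * series i := by
    ext d
    rw [map_sum, ← hc d]
    refine Finset.sum_congr rfl fun i _ => ?_
    rw [MvPowerSeries.coeff_C_mul, smul_eq_mul, mul_comm]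
    rfl
  rw [heq]
  exact sum_mem fun i _ => Ideal.mul_mem_right _ _
    (Ideal.mem_map_of_mem _ (Submodule.subset_span (Set.mem_range_self i)))

include h2 in
theorem nonempty_iso [IsNoetherianRing R] [IsAdicComplete (maximalIdeal R) R]
    [IsAdicComplete (maximalIdeal S) S] [Module.Flat R S]
    (p : S →ₐ[k] A₁) (hp : Function.Surjective p)
    (hker : ∀ s, p s = 0 ↔ s ∈ (maximalIdeal R).map (algebraMap R S)) (x y : S) (t : R)
    (hx : p x = U) (hy : p y = V) (ht : t ∈ maximalIdeal R) (hxy : x * y = algebraMap R S t) :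
    ∃ f : S ≃ₐ[R] (MvPowerSeries (Fin 2) R ⧸
        Ideal.span {(MvPowerSeries.X 0 * MvPowerSeries.X 1 - MvPowerSeries.C t :
          MvPowerSeries (Fin 2) R)}),
      f x = Ideal.Quotient.mk _ (MvPowerSeries.X 0) ∧
      f y = Ideal.Quotient.mk _ (MvPowerSeries.X 1) := by
  let χS : S →ₐ[k] k := (χ k).comp p
  have hxm : x ∈ maximalIdeal S := (mem_max_iff χS x).2 (by simp [χS, hx, χ_apply, π₁_U h2])
  have hym : y ∈ maximalIdeal S := (mem_max_iff χS y).2 (by
    show χ k (p y) = 0
    rw [hy, χ_apply, π₁_V, map_zero])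
  obtain ⟨ψ, hψ⟩ := exists_eval (R := R) (maximalIdeal S) ![x, y] fun i => by
    fin_cases i <;> simpa
  have hψ0 : ψ (MvPowerSeries.X 0) = x := hψ 0
  have hψ1 : ψ (MvPowerSeries.X 1) = y := hψ 1
  have hmS : maximalIdeal S ≠ ⊤ := (maximalIdeal.isMaximal S).ne_top
  -- the residue map of `R`
  let ρ : R →+* k := χS.toRingHom.comp (algebraMap R S)
  have hρ : ∀ r ∈ maximalIdeal R, ρ r = 0 := fun r hr =>
    (mem_max_iff χS _).1 (map_max (Ideal.mem_map_of_mem _ hr))
  have hρ' : ∀ r, ρ r = 0 → r ∈ maximalIdeal R := fun r hr hu => (hu.map ρ).ne_zero hr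
  have hρk : ∀ c, ρ (algebraMap k R c) = c := fun c => by
    show χS (algebraMap R S (algebraMap k R c)) = c
    rw [← IsScalarTower.algebraMap_apply, AlgHom.commutes, Algebra.algebraMap_self_apply]
  have hpR : ∀ r, p (algebraMap R S r) = algebraMap k A₁ (ρ r) := fun r => by
    have h0 : r - algebraMap k R (ρ r) ∈ maximalIdeal R := hρ' _ (by rw [map_sub, hρk, sub_self])
    have := (hker _).2 (Ideal.mem_map_of_mem (algebraMap R S) h0)
    rwa [map_sub, ← IsScalarTower.algebraMap_apply, map_sub, AlgHom.commutes, sub_eq_zero] at this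
  -- compatibility with the closed fibre
  have hclosed : ∀ h, p (ψ h) = θ k (MvPowerSeries.map ρ h) := by
    refine RingHom.congr_fun (ringHom_ext_of_sep (p.toRingHom.comp ψ.toRingHom)
      ((θ k).toRingHom.comp (MvPowerSeries.map ρ)) (RingHom.ker (χ k).toRingHom)
      (fun s hs => eq_zero_of_forall_mem_pow (RingHom.ker_ne_top _) hs) (fun r => ?_) (fun i => ?_)
      fun i => ?_)
    · show p (ψ (MvPowerSeries.C r)) = θ k (MvPowerSeries.map ρ (MvPowerSeries.C r))
      rw [show (MvPowerSeries.C r : MvPowerSeries (Fin 2) R) = algebraMap R _ r from rfl,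
        AlgHom.commutes, hpR, ← (θ k).commutes]
      exact congrArg _ (MvPowerSeries.map_C ρ r).symm
    · show p (ψ (MvPowerSeries.X i)) = θ k (MvPowerSeries.map ρ (MvPowerSeries.X i))
      rw [MvPowerSeries.map_X]
      fin_cases i
      · exact (congrArg p hψ0).trans (hx.trans θ_X0.symm)
      · exact (congrArg p hψ1).trans (hy.trans θ_X1.symm)
    · show χS (ψ (MvPowerSeries.X i)) = 0
      fin_cases i
      · exact (congrArg χS hψ0).trans ((mem_max_iff χS x).1 hxm)
      · exact (congrArg χS hψ1).trans ((mem_max_iff χS y).1 hym)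
  -- surjectivity
  let J : Ideal S := Ideal.span {x, y}
  have hJ : J ≤ maximalIdeal S := Ideal.span_le.2 (by
    rintro _ (rfl | rfl)
    exacts [hxm, hym])
  have hsurj₁ : Function.Surjective ((Ideal.Quotient.mk J).comp (algebraMap R S)) := by
    have : Nontrivial (S ⧸ J) := Ideal.Quotient.nontrivial_iff.2 fun h => hmS (top_le_iff.1 (h ▸ hJ))
    have : IsLocalRing (S ⧸ J) := .of_surjective' (Ideal.Quotient.mk J) Ideal.Quotient.mk_surjective
    let g := (Ideal.Quotient.mk J).comp (algebraMap R S)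
    have hne : (maximalIdeal R).map g ≠ ⊤ := by
      rw [← Ideal.map_map]
      refine ne_top_of_le_ne_top (maximalIdeal.isMaximal (S ⧸ J)).ne_top
        (Ideal.map_le_iff_le_comap.2 fun s hs hu => ?_)
      obtain ⟨v, hv⟩ := hu.exists_right_inv
      obtain ⟨v, rfl⟩ := Ideal.Quotient.mk_surjective v
      rw [← map_mul, ← map_one (Ideal.Quotient.mk J), Ideal.Quotient.eq] at hv
      exact hmS ((Ideal.eq_top_iff_one _).2 (by
        simpa using sub_mem (Ideal.mul_mem_right v _ (map_max hs)) (hJ hv)))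
    haveI : IsHausdorff ((maximalIdeal R).map g) (S ⧸ J) := ⟨fun z hz =>
      eq_zero_of_forall_mem_pow hne fun n => by simpa [SModEq.sub_mem] using hz n⟩
    refine surjective_of_mk_map_comp_surjective (I := maximalIdeal R) g fun z => ?_
    obtain ⟨z, rfl⟩ := Ideal.Quotient.mk_surjective z
    obtain ⟨s, rfl⟩ := Ideal.Quotient.mk_surjective z
    obtain ⟨a, b, hab⟩ := split h2 (p s)
    obtain ⟨a, rfl⟩ := hp a
    obtain ⟨b, rfl⟩ := hp b
    refine ⟨algebraMap k R (χS s), Eq.symm (Ideal.Quotient.eq.2 ?_)⟩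
    have hI : s - algebraMap k S (χS s) - (x * a + y * b) ∈
        (maximalIdeal R).map (algebraMap R S) := by
      refine (hker _).1 ?_
      simp only [map_sub, map_add, map_mul, AlgHom.commutes, hx, hy]
      show p s - algebraMap k A₁ (χ k (p s)) - (U * p a + V * p b) = 0
      linear_combination hab
    have hJab : Ideal.Quotient.mk J (x * a + y * b) = 0 := Ideal.Quotient.eq_zero_iff_mem.2
      (add_mem (Ideal.mul_mem_right _ _ (Ideal.subset_span (.inl rfl)))
        (Ideal.mul_mem_right _ _ (Ideal.subset_span (.inr rfl))))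
    show Ideal.Quotient.mk J s - g (algebraMap k R (χS s)) ∈ (maximalIdeal R).map g
    rw [← Ideal.map_map]
    convert Ideal.mem_map_of_mem (Ideal.Quotient.mk J) hI using 1
    simp only [g, RingHom.comp_apply, map_sub, hJab, sub_zero, ← IsScalarTower.algebraMap_apply]
  have hsurj : Function.Surjective ψ := by
    let Xs : Ideal (MvPowerSeries (Fin 2) R) := Ideal.span (Set.range MvPowerSeries.X)
    have hXs : Xs.map ψ.toRingHom = J := by
      rw [Ideal.map_span, ← Set.range_comp]
      congr 1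
      ext s
      simp [Fin.exists_fin_two, hψ0, hψ1, eq_comm]
    haveI : IsHausdorff (Xs.map ψ.toRingHom) S := ⟨fun z hz =>
      eq_zero_of_forall_mem_pow hmS fun n => Ideal.pow_right_mono (hXs ▸ hJ) n
        (by simpa [SModEq.sub_mem] using hz n)⟩
    refine surjective_of_mk_map_comp_surjective (I := Xs) ψ.toRingHom fun z => ?_
    obtain ⟨s, rfl⟩ := Ideal.Quotient.mk_surjective z
    obtain ⟨r, hr⟩ := hsurj₁ (Ideal.Quotient.mk J s)
    refine ⟨MvPowerSeries.C r, Ideal.Quotient.eq.2 ?_⟩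
    rw [hXs, show ψ.toRingHom (MvPowerSeries.C r) = algebraMap R S r from ψ.commutes r]
    exact Ideal.Quotient.eq.1 hr
  -- injectivity
  let w : MvPowerSeries (Fin 2) R :=
    MvPowerSeries.X 0 * MvPowerSeries.X 1 - MvPowerSeries.C t
  have hw : ψ w = 0 := by
    simp only [w, map_sub, map_mul, hψ0, hψ1, hxy]
    exact sub_eq_zero.2 (ψ.commutes t).symm
  let M := (maximalIdeal R).map (MvPowerSeries.C : R →+* MvPowerSeries (Fin 2) R)
  have hM : M ≤ maximalIdeal (MvPowerSeries (Fin 2) R) := Ideal.map_le_iff_le_comap.2 fun r hr hu =>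
    hr (by simpa using MvPowerSeries.isUnit_iff_constantCoeff.1 hu)
  have hmfg : (maximalIdeal R).FG := IsNoetherian.noetherian _
  have hK : RingHom.ker ψ.toRingHom ≤ Ideal.span {w} := by
    refine Submodule.le_of_le_smul_of_le_jacobson_bot (I := M) (IsNoetherian.noetherian _)
      (hM.trans (jacobson_eq_maximalIdeal ⊥ bot_ne_top).ge) fun a ha => ?_
    have ha' : θ k (MvPowerSeries.map ρ a) = 0 := by
      rw [← hclosed, show ψ a = 0 from ha, map_zero]
    obtain ⟨gb, hgb⟩ := θ_ker h2 _ ha'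
    obtain ⟨g, rfl⟩ : ∃ g, MvPowerSeries.map ρ g = gb :=
      ⟨MvPowerSeries.map (algebraMap k R) gb, by ext d; simp [hρk]⟩
    have hd : a - MvPowerSeries.X 0 * MvPowerSeries.X 1 * g ∈ M := by
      refine mem_map_C hmfg fun d => hρ' _ ?_
      rw [← MvPowerSeries.coeff_map, map_sub, map_mul, map_mul, MvPowerSeries.map_X,
        MvPowerSeries.map_X, ← hgb, sub_self, map_zero]
    have hd' : a - w * g ∈ M := by
      have : a - w * g = (a - MvPowerSeries.X 0 * MvPowerSeries.X 1 * g) + MvPowerSeries.C t * g := by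
        simp only [w]; ring
      rw [this]
      exact add_mem hd (Ideal.mul_mem_right _ _ (Ideal.mem_map_of_mem _ ht))
    obtain ⟨n, gen, hgen⟩ := Submodule.fg_iff_exists_fin_generating_family.1 hmfg
    have hd'' : a - w * g ∈ Submodule.span (MvPowerSeries (Fin 2) R)
        (Set.range fun i => (MvPowerSeries.C (gen i) : MvPowerSeries (Fin 2) R)) := by
      have : M = Ideal.span (Set.range fun i => MvPowerSeries.C (gen i)) := by
        simp only [M, ← hgen]
        rw [show Submodule.span R (Set.range gen) = Ideal.span (Set.range gen) from rfl,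
          Ideal.map_span, ← Set.range_comp]
        rfl
      rw [this] at hd'
      exact hd'
    obtain ⟨q, hq⟩ := (Submodule.mem_span_range_iff_exists_fun _).1 hd''
    have hrel : ∑ i, gen i • ψ (q i) = 0 := by
      have := congrArg ψ hq
      rw [map_sum, map_sub, map_mul, hw, zero_mul, sub_zero, show ψ a = 0 from ha] at this
      rw [← this]
      refine Finset.sum_congr rfl fun i _ => ?_
      rw [smul_eq_mul, map_mul, Algebra.smul_def, mul_comm]
      exact congrArg _ (ψ.commutes _).symm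
    obtain ⟨l, A, z, hz, hA⟩ := Module.Flat.isTrivialRelation_of_sum_smul_eq_zero hrel
    choose W hW using fun j => hsurj (z j)
    refine Submodule.mem_sup.2 ⟨w * g, Ideal.mul_mem_right _ _ (Ideal.mem_span_singleton_self w),
      a - w * g, ?_, by ring⟩
    have e : a - w * g = ∑ i, MvPowerSeries.C (gen i) *
        (q i - ∑ j, MvPowerSeries.C (A i j) * W j) := by
      simp only [mul_sub, Finset.sum_sub_distrib]
      rw [show ∑ i, MvPowerSeries.C (gen i) * ∑ j, MvPowerSeries.C (A i j) * W j = 0 by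
        simp only [Finset.mul_sum]
        rw [Finset.sum_comm]
        refine Finset.sum_eq_zero fun j _ => ?_
        simp only [← mul_assoc, ← Finset.sum_mul, ← map_mul, ← map_sum]
        rw [hA j, map_zero, zero_mul]]
      rw [sub_zero, ← hq]
      exact Finset.sum_congr rfl fun i _ => by rw [smul_eq_mul, mul_comm]
    rw [e]
    refine sum_mem fun i _ => Submodule.smul_mem_smul (Ideal.mem_map_of_mem _ ?_) ?_
    · rw [← hgen]; exact Submodule.subset_span (Set.mem_range_self i)
    · show ψ (q i - ∑ j, MvPowerSeries.C (A i j) * W j) = 0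
      rw [map_sub, map_sum, show ψ (q i) = _ from hz i, sub_eq_zero]
      refine Finset.sum_congr rfl fun j _ => ?_
      rw [map_mul, hW, Algebra.smul_def]
      exact congrArg (· * z j) (ψ.commutes _).symm
  let Ψ : (MvPowerSeries (Fin 2) R ⧸ Ideal.span {w}) →ₐ[R] S :=
    Ideal.Quotient.liftₐ _ ψ fun a ha => by
      obtain ⟨c, rfl⟩ := Ideal.mem_span_singleton'.1 ha
      rw [map_mul, hw, mul_zero]
  have hΨ : Function.Bijective Ψ := by
    refine ⟨(injective_iff_map_eq_zero Ψ).2 fun z hz => ?_, fun s => ?_⟩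
    · obtain ⟨a, rfl⟩ := Ideal.Quotient.mk_surjective z
      exact Ideal.Quotient.eq_zero_iff_mem.2 (hK hz)
    · obtain ⟨a, rfl⟩ := hsurj s
      exact ⟨Ideal.Quotient.mk _ a, rfl⟩
  refine ⟨(AlgEquiv.ofBijective Ψ hΨ).symm, ?_, ?_⟩
  · rw [AlgEquiv.symm_apply_eq]
    exact hψ0.symm
  · rw [AlgEquiv.symm_apply_eq]
    exact hψ1.symm

end Groth.Agent.Lib.NodeDeform45
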