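import Groth.Agent.Lib.NodeDeform45.Branch

/-!
# Lifting the equation `UV = 0` equivariantly
-/

set_option autoImplicit false

open Groth.Agent.H95.NodeSwap Groth.Agent.Lib.NodeInvol IsLocalRing

noncomputable section

namespace Groth.Agent.Lib.NodeDeform45

universe u

variable {k : Type u} [Field k]

local notation "A₁" => ArSing.ring k 1
local notation "U" => ArSing.x k 1 + ArSing.y k 1
local notation "V" => ArSing.y k 1 - ArSing.x k 1

variable (h2 : (2 : k) ≠ 0)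
variable {R S : Type u} [CommRing R] [CommRing S] [Algebra k R] [Algebra R S] [Algebra k S]
  [IsScalarTower k R S] [IsLocalRing R]

include h2 in
theorem decomp (p : S →ₐ[k] A₁) (hp : Function.Surjective p)
    (hker : ∀ s, p s = 0 ↔ s ∈ (maximalIdeal R).map (algebraMap R S)) (x y : S)
    (hx : p x = U) (hy : p y = V) (n : ℕ) (z : S)
    (hz : z ∈ (maximalIdeal R).map (algebraMap R S) ^ n) :
    ∃ c ∈ maximalIdeal R ^ n, ∃ f ∈ (maximalIdeal R).map (algebraMap R S) ^ n,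
      ∃ g ∈ (maximalIdeal R).map (algebraMap R S) ^ n,
      z - (algebraMap R S c + x * f + y * g) ∈ (maximalIdeal R).map (algebraMap R S) ^ (n + 1) := by
  rw [← Ideal.map_pow] at hz
  induction hz using Submodule.span_induction with
  | mem z hz =>
    obtain ⟨c, hc, rfl⟩ := hz
    exact ⟨c, hc, 0, zero_mem _, 0, zero_mem _, by simp⟩
  | zero => exact ⟨0, zero_mem _, 0, zero_mem _, 0, zero_mem _, by simp⟩
  | add a b _ _ iha ihb =>
    obtain ⟨c, hc, f, hf, g, hg, ha⟩ := iha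
    obtain ⟨c', hc', f', hf', g', hg', hb⟩ := ihb
    refine ⟨_, add_mem hc hc', _, add_mem hf hf', _, add_mem hg hg', ?_⟩
    convert add_mem ha hb using 1
    rw [map_add]; ring
  | smul s z _ ih =>
    obtain ⟨c, hc, f, hf, g, hg, hz⟩ := ih
    obtain ⟨a, b, hs⟩ := split h2 (p s)
    obtain ⟨f₀, rfl⟩ := hp a
    obtain ⟨g₀, rfl⟩ := hp b
    let c₀ : R := algebraMap k R (χ k (p s))
    have h0 : s - (algebraMap R S c₀ + x * f₀ + y * g₀) ∈ (maximalIdeal R).map (algebraMap R S) := by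
      refine (hker _).1 ?_
      rw [show algebraMap R S c₀ = algebraMap k S (χ k (p s)) from
        (IsScalarTower.algebraMap_apply k R S _).symm, map_sub, map_add, map_add, map_mul, map_mul,
        AlgHom.commutes, hx, hy, ← hs, sub_self]
    have hC : algebraMap R S c ∈ (maximalIdeal R).map (algebraMap R S) ^ n :=
      Ideal.map_pow (f := algebraMap R S) (maximalIdeal R) n ▸ Ideal.mem_map_of_mem _ hc
    refine ⟨c₀ * c, Ideal.mul_mem_left _ _ hc, f₀ * algebraMap R S c + s * f,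
      add_mem (Ideal.mul_mem_left _ _ hC) (Ideal.mul_mem_left _ _ hf),
      g₀ * algebraMap R S c + s * g,
      add_mem (Ideal.mul_mem_left _ _ hC) (Ideal.mul_mem_left _ _ hg), ?_⟩
    have h3 := add_mem (Ideal.mul_mem_left _ s hz)
      (pow_succ ((maximalIdeal R).map (algebraMap R S)) n ▸ Ideal.mul_mem_mul hC h0)
    convert h3 using 1
    rw [map_mul, smul_eq_mul]; ring

/-- The approximations. -/
def Good (σ : S ≃ₐ[R] S) (ξ₁ ξ₂ : k) (p : S →ₐ[k] A₁) (n : ℕ) (v : S × S × R) : Prop :=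
  σ v.1 = algebraMap k S ξ₂ * v.1 ∧ σ v.2.1 = algebraMap k S ξ₁ * v.2.1 ∧
    p v.1 = U ∧ p v.2.1 = V ∧ (ξ₁ = -ξ₂ → v.2.2 = 0) ∧ v.2.2 ∈ maximalIdeal R ∧
    v.1 * v.2.1 - algebraMap R S v.2.2 ∈ (maximalIdeal R).map (algebraMap R S) ^ (n + 1)

include h2 in
theorem step (σ : S ≃ₐ[R] S) (hσ : ∀ s, σ (σ s) = s) {ξ₁ ξ₂ : k} (h₁ : ξ₁ ^ 2 = 1) (h₂ : ξ₂ ^ 2 = 1)
    (p : S →ₐ[k] A₁) (hp : Function.Surjective p)
    (hker : ∀ s, p s = 0 ↔ s ∈ (maximalIdeal R).map (algebraMap R S)) (n : ℕ) (v : S × S × R)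
    (hv : Good σ ξ₁ ξ₂ p n v) :
    ∃ w, Good σ ξ₁ ξ₂ p (n + 1) w ∧ w.1 - v.1 ∈ (maximalIdeal R).map (algebraMap R S) ^ (n + 1) ∧
      w.2.1 - v.2.1 ∈ (maximalIdeal R).map (algebraMap R S) ^ (n + 1) ∧
      w.2.2 - v.2.2 ∈ maximalIdeal R ^ (n + 1) := by
  obtain ⟨x, y, t⟩ := v
  obtain ⟨hσx, hσy, hx, hy, ht0, htm, hd⟩ := hv
  dsimp only at hσx hσy hx hy ht0 htm hd ⊢
  obtain ⟨c, hc, f, hf, g, hg, he⟩ := decomp h2 p hp hker x y hx hy (n + 1) _ hd
  set I := (maximalIdeal R).map (algebraMap R S) with hI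
  have hσI : ∀ m, ∀ z ∈ I ^ m, σ z ∈ I ^ m := by
    intro m z hz
    have h := Ideal.mem_map_of_mem (σ : S →+* S) hz
    rwa [Ideal.map_pow, Ideal.map_map, show (σ : S →+* S).comp (algebraMap R S) = algebraMap R S from
      RingHom.ext σ.commutes] at h
  set a₁ := algebraMap k S ξ₁ with ha₁
  set a₂ := algebraMap k S ξ₂ with ha₂
  set h := algebraMap k S 2⁻¹ with hh
  have sq₁ : a₁ * a₁ = 1 := by rw [ha₁, ← map_mul, ← sq, h₁, map_one]
  have sq₂ : a₂ * a₂ = 1 := by rw [ha₂, ← map_mul, ← sq, h₂, map_one]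
  have half : h * 2 = 1 := by
    rw [hh, ← map_ofNat (algebraMap k S) 2, ← map_mul, inv_mul_cancel₀ h2, map_one]
  have hηt : (a₁ * a₂ - 1) * algebraMap R S t = 0 := by
    rcases sq_eq_sq_iff_eq_or_eq_neg.1 (h₁.trans h₂.symm) with e | e
    · rw [show a₁ = a₂ by rw [ha₁, ha₂, e], sq₂, sub_self, zero_mul]
    · rw [ht0 e, map_zero, mul_zero]
  set e := x * y - algebraMap R S t - (algebraMap R S c + x * f + y * g) with hedef
  have hσd : σ (x * y - algebraMap R S t) = a₁ * a₂ * (x * y - algebraMap R S t) := by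
    rw [map_sub, map_mul, hσx, hσy, AlgEquiv.commutes]
    linear_combination hηt
  have hσd' : σ (x * y - algebraMap R S t) =
      algebraMap R S c + a₂ * x * σ f + a₁ * y * σ g + σ e := by
    conv_lhs => rw [show x * y - algebraMap R S t = algebraMap R S c + x * f + y * g + e by
      rw [hedef]; ring]
    simp only [map_add, map_mul, AlgEquiv.commutes, hσx, hσy]
  let g' := h * (g + a₂ * σ g)
  let f' := h * (f + a₁ * σ f)
  let r : R := algebraMap k R (2⁻¹ * (1 + ξ₁ * ξ₂)) * c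
  have hr : algebraMap R S r = h * (1 + a₁ * a₂) * algebraMap R S c := by
    simp only [r, map_mul, ← IsScalarTower.algebraMap_apply k R S, hh, ha₁, ha₂, map_add, map_one]
  have hg' : g' ∈ I ^ (n + 1) :=
    Ideal.mul_mem_left _ _ (add_mem hg (Ideal.mul_mem_left _ _ (hσI _ _ hg)))
  have hf' : f' ∈ I ^ (n + 1) :=
    Ideal.mul_mem_left _ _ (add_mem hf (Ideal.mul_mem_left _ _ (hσI _ _ hf)))
  have hI1 : ∀ z ∈ I ^ (n + 1), p z = 0 := fun z hz =>
    (hker z).2 (Ideal.pow_le_self n.succ_ne_zero hz)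
  have hrm : r ∈ maximalIdeal R ^ (n + 1) := Ideal.mul_mem_left _ _ hc
  refine ⟨(x - g', y - f', t + r), ⟨?_, ?_, ?_, ?_, ?_, ?_, ?_⟩, ?_, ?_, ?_⟩ <;> dsimp only
  · simp only [g', map_sub, map_mul, map_add, hσx, hσ, hh, ha₂, fix]
    linear_combination (algebraMap k S 2⁻¹ * σ g) * sq₂
  · simp only [f', map_sub, map_mul, map_add, hσy, hσ, hh, ha₁, fix]
    linear_combination (algebraMap k S 2⁻¹ * σ f) * sq₁
  · rw [map_sub, hI1 _ hg', sub_zero, hx]
  · rw [map_sub, hI1 _ hf', sub_zero, hy]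
  · intro e'
    simp only [ht0 e', r, e', neg_mul, ← sq, h₂, add_neg_cancel, mul_zero, map_zero, zero_mul, add_zero]
  · exact add_mem htm (Ideal.pow_le_self n.succ_ne_zero hrm)
  · have key : (x - g') * (y - f') - algebraMap R S (t + r) =
        h * (e + a₁ * a₂ * σ e) + g' * f' := by
      simp only [f', g', map_add, hr]
      linear_combination (-(x * y - algebraMap R S t)) * half - h * (hedef.symm.trans rfl)
        + h * a₁ * a₂ * (hσd'.symm.trans hσd).symm - h * (x * y - algebraMap R S t) * a₂ * a₂ * sq₁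
        - h * (x * y - algebraMap R S t) * sq₂ + h * x * a₁ * σ f * sq₂ + h * y * a₂ * σ g * sq₁
    rw [key]
    refine add_mem (Ideal.mul_mem_left _ _ (add_mem he (Ideal.mul_mem_left _ _ (hσI _ _ he)))) ?_
    refine Ideal.pow_le_pow_right (show n + 1 + 1 ≤ (n + 1) + (n + 1) by omega) ?_
    rw [pow_add]
    exact Ideal.mul_mem_mul hg' hf'
  · simpa using neg_mem hg'
  · simpa using neg_mem hf'
  · simpa using hrm

theorem map_max [IsLocalRing S] [IsLocalHom (algebraMap R S)] :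
    (maximalIdeal R).map (algebraMap R S) ≤ maximalIdeal S :=
  ((IsLocalRing.local_hom_TFAE (algebraMap R S)).out 0 2 rfl rfl).1 inferInstance

include h2 in
theorem exists_limit [IsLocalRing S] [IsNoetherianRing S] [IsLocalHom (algebraMap R S)]
    [IsAdicComplete (maximalIdeal R) R] [IsAdicComplete (maximalIdeal S) S]
    (σ : S ≃ₐ[R] S) (hσ : ∀ s, σ (σ s) = s) {ξ₁ ξ₂ : k} (h₁ : ξ₁ ^ 2 = 1) (h₂ : ξ₂ ^ 2 = 1)
    (p : S →ₐ[k] A₁) (hp : Function.Surjective p)
    (hker : ∀ s, p s = 0 ↔ s ∈ (maximalIdeal R).map (algebraMap R S)) (x₀ y₀ : S)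
    (hσx : σ x₀ = algebraMap k S ξ₂ * x₀) (hσy : σ y₀ = algebraMap k S ξ₁ * y₀)
    (hx : p x₀ = U) (hy : p y₀ = V) :
    ∃ (x y : S) (t : R), σ x = algebraMap k S ξ₂ * x ∧ σ y = algebraMap k S ξ₁ * y ∧
      p x = U ∧ p y = V ∧ (ξ₁ = -ξ₂ → t = 0) ∧ t ∈ maximalIdeal R ∧ x * y = algebraMap R S t := by
  have h0 : Good σ ξ₁ ξ₂ p 0 (x₀, y₀, 0) := ⟨hσx, hσy, hx, hy, fun _ => rfl, zero_mem _, by
    simp only [map_zero, sub_zero, zero_add, pow_one]
    exact (hker _).1 (by rw [map_mul, hx, hy, UV])⟩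
  choose F hF using fun n v (hv : Good σ ξ₁ ξ₂ p n v) => step h2 σ hσ h₁ h₂ p hp hker n v hv
  let seq : ∀ n, { v : S × S × R // Good σ ξ₁ ξ₂ p n v } := fun n =>
    Nat.rec ⟨(x₀, y₀, 0), h0⟩ (fun n v => ⟨F n v.1 v.2, (hF n v.1 v.2).1⟩) n
  have hle : ∀ n, (maximalIdeal R).map (algebraMap R S) ^ (n + 1) ≤ maximalIdeal S ^ n := fun n =>
    (Ideal.pow_le_pow_right n.le_succ).trans (Ideal.pow_right_mono map_max n)
  obtain ⟨x, hxl⟩ := exists_lim (maximalIdeal S) (fun n => (seq n).1.1) fun n =>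
    hle n (hF n _ (seq n).2).2.1
  obtain ⟨y, hyl⟩ := exists_lim (maximalIdeal S) (fun n => (seq n).1.2.1) fun n =>
    hle n (hF n _ (seq n).2).2.2.1
  obtain ⟨t, htl⟩ := exists_lim (maximalIdeal R) (fun n => (seq n).1.2.2) fun n =>
    Ideal.pow_le_pow_right n.le_succ (hF n _ (seq n).2).2.2.2
  have hmS : maximalIdeal S ≠ ⊤ := (maximalIdeal.isMaximal S).ne_top
  have hσm : ∀ n, ∀ z ∈ maximalIdeal S ^ n, σ z ∈ maximalIdeal S ^ n := by
    intro n z hz
    have h := Ideal.mem_map_of_mem (σ : S →+* S) hz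
    rw [Ideal.map_pow] at h
    refine Ideal.pow_right_mono (Ideal.map_le_iff_le_comap.2 fun w hw => ?_) n h
    exact fun hu => hw (by simpa using hu.map σ.symm)
  have heig : ∀ (z : S) (w : ℕ → S) (ξ : k), (∀ n, z - w n ∈ maximalIdeal S ^ n) →
      (∀ n, σ (w n) = algebraMap k S ξ * w n) → σ z = algebraMap k S ξ * z := by
    intro z w ξ hzw hw
    refine sub_eq_zero.1 (eq_zero_of_forall_mem_pow hmS fun n => ?_)
    convert sub_mem (hσm n _ (hzw n)) (Ideal.mul_mem_left _ (algebraMap k S ξ) (hzw n)) using 1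
    rw [map_sub, hw n]; ring
  let J₀ : Ideal A₁ := RingHom.ker (χ k).toRingHom
  have hclose : ∀ (z : S) (w : ℕ → S) (a : A₁), (∀ n, z - w n ∈ maximalIdeal S ^ n) →
      (∀ n, p (w n) = a) → p z = a := by
    intro z w a hzw hw
    refine sub_eq_zero.1 (eq_zero_of_forall_mem_pow (J := J₀) (RingHom.ker_ne_top _) fun n => ?_)
    have hmap : (maximalIdeal S).map p ≤ J₀ := Ideal.map_le_iff_le_comap.2 fun s hs =>
      (mem_max_iff ((χ k).comp p) s).1 hs
    refine Ideal.pow_right_mono hmap n ?_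
    rw [← Ideal.map_pow, ← hw n, ← map_sub]
    exact Ideal.mem_map_of_mem p (hzw n)
  refine ⟨x, y, t, heig x _ ξ₂ hxl fun n => (seq n).2.1, heig y _ ξ₁ hyl fun n => (seq n).2.2.1,
    hclose x _ _ hxl fun n => (seq n).2.2.2.1, hclose y _ _ hyl fun n => (seq n).2.2.2.2.1,
    fun e => ?_, ?_, ?_⟩
  · refine IsHausdorff.haus (I := maximalIdeal R) inferInstance t fun n => ?_
    rw [SModEq.sub_mem, sub_zero, smul_eq_mul, Ideal.mul_top]
    simpa [(seq n).2.2.2.2.2.1 e] using htl n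
  · have := htl 1
    rw [pow_one] at this
    simpa using add_mem this (seq 1).2.2.2.2.2.2.1
  · refine sub_eq_zero.1 (eq_zero_of_forall_mem_pow hmS fun n => ?_)
    have hT : algebraMap R S (t - (seq n).1.2.2) ∈ maximalIdeal S ^ n :=
      Ideal.pow_right_mono map_max n (Ideal.map_pow (f := algebraMap R S) (maximalIdeal R) n ▸
        Ideal.mem_map_of_mem _ (htl n))
    rw [show x * y - algebraMap R S t = (x - (seq n).1.1) * y + (seq n).1.1 * (y - (seq n).1.2.1) +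
      ((seq n).1.1 * (seq n).1.2.1 - algebraMap R S (seq n).1.2.2) -
      algebraMap R S (t - (seq n).1.2.2) by rw [map_sub]; ring]
    exact sub_mem (add_mem (add_mem (Ideal.mul_mem_right _ _ (hxl n)) (Ideal.mul_mem_left _ _ (hyl n)))
      (hle n (seq n).2.2.2.2.2.2.2)) hT

end Groth.Agent.Lib.NodeDeform45
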